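import Groth.Agent.S19456
import Groth.Agent.S19455
import Groth.Agent.CDiv6.Factorial
import Groth.Agent.H23.StalkPrimes
import Groth.Agent.H23.PicMul
import Groth.Agent.BMLib.Piece
import Groth.Agent.DivX.CodimOne

/-!
# Zero schemes with irreducible support in a locally factorial scheme

Such a zero scheme is reduced, or its module is a proper power in the Picard monoid.
-/

noncomputable section

set_option autoImplicit false
set_option linter.style.haveILetI false
set_option backward.isDefEq.respectTransparency false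
set_option backward.isDefEq.respectTransparency.types false
set_option maxHeartbeats 1000000

universe u

open CategoryTheory AlgebraicGeometry TopologicalSpace

namespace Groth.Agent.AVThetaRed

open Groth.Agent Groth.Agent.CDiv6
open scoped Groth.Agent.H23.PicMul

variable {X : Scheme.{u}} [IsIntegral X] (hU : ∀ x : X, UniqueFactorizationMonoid (X.presheaf.stalk x))

/-- The germ of divisor given by a nonzero element of a stalk. -/
def germClass {x : X} (a : Mero.regStalk X x) : Mero.Germ X x :=
  QuotientGroup.mk (IsLocalization.map_units (Mero.KStalk X x) a).unit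

omit [IsIntegral X] in
theorem germClass_mul {x : X} (a b : Mero.regStalk X x) : germClass (a * b) = germClass a * germClass b := by
  rw [germClass, germClass, germClass, ← QuotientGroup.mk_mul]
  exact congrArg _ (Units.ext (map_mul _ _ _))

omit [IsIntegral X] in
theorem germClass_one {x : X} : germClass (1 : Mero.regStalk X x) = 1 := by
  rw [germClass, QuotientGroup.eq_one_iff]
  exact ⟨1, Units.ext (by simp)⟩

omit [IsIntegral X] in
theorem germClass_pow {x : X} (a : Mero.regStalk X x) : ∀ n : ℕ, germClass (a ^ n) = germClass a ^ n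
  | 0 => by rw [pow_zero, pow_zero, germClass_one]
  | n + 1 => by rw [pow_succ, pow_succ, germClass_mul, germClass_pow a n]

omit [IsIntegral X] in
theorem germClass_eq_of_associated {x : X} {a b : Mero.regStalk X x}
    (h : Associated (a : X.presheaf.stalk x) b) : germClass a = germClass b := by
  obtain ⟨v, hv⟩ := h
  refine QuotientGroup.eq.2 ⟨v, ?_⟩
  rw [eq_inv_mul_iff_mul_eq]
  refine Units.ext ?_
  show algebraMap _ _ (a : X.presheaf.stalk x) * algebraMap _ _ (v : X.presheaf.stalk x) = algebraMap _ _ _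
  rw [← map_mul, hv]

include hU in
/-- The group of germs of divisors is torsion-free. -/
theorem germ_pow_inj (x : X) {n : ℕ} (hn : n ≠ 0) {g g' : Mero.Germ X x} (h : g ^ n = g' ^ n) : g = g' := by
  haveI := hU x
  suffices key : ∀ g : Mero.Germ X x, g ^ n = 1 → g = 1 by
    exact inv_mul_eq_one.1 (key (g⁻¹ * g') (by rw [(Commute.all g⁻¹ g').mul_pow, inv_pow, h, inv_mul_cancel]))
  intro g hg
  induction g using QuotientGroup.induction_on with
  | _ t =>
    rw [← QuotientGroup.mk_pow, QuotientGroup.eq_one_iff] at hg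
    obtain ⟨v, hv⟩ := hg
    rw [QuotientGroup.eq_one_iff]
    obtain ⟨⟨r, s⟩, hrs⟩ := IsLocalization.surj (Mero.regStalk X x) (t : Mero.KStalk X x)
    have hrs' : (r : X.presheaf.stalk x) ^ n = v * (s : X.presheaf.stalk x) ^ n := by
      refine Mero.algebraMap_KStalk_injective x ?_
      rw [map_pow, ← hrs, map_mul, map_pow, mul_pow]
      congr 1
      rw [← Units.val_pow_eq_pow_val, ← hv]
      rfl
    have hass : Associated (s : X.presheaf.stalk x) r :=
      associated_of_dvd_dvd ((IsIntegrallyClosed.pow_dvd_pow_iff hn).1 ⟨v, by rw [hrs', mul_comm]⟩)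
        ((IsIntegrallyClosed.pow_dvd_pow_iff hn).1 ⟨↑v⁻¹, by rw [hrs']; rw [mul_comm, Units.inv_mul_cancel_left]⟩)
    obtain ⟨w, hw⟩ := hass
    refine ⟨w, Units.ext ?_⟩
    refine (IsLocalization.map_units (Mero.KStalk X x) s).mul_right_cancel ?_
    rw [hrs]
    show algebraMap _ _ (w : X.presheaf.stalk x) * algebraMap _ _ _ = _
    rw [← map_mul, ← hw, mul_comm]

/-- A section of the structure sheaf nonzero at one germ is a regular section. -/
theorem mem_regSub {U : X.Opens} {x : X} (hx : x ∈ U) {f : Γ(X, U)} (hf : X.presheaf.germ U x hx f ≠ 0) :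
    f ∈ Mero.regSub X U := fun y => mem_nonZeroDivisors_of_ne_zero fun h => by
  have : f = 0 := germ_injective_of_isIntegral X y.1 y.2 (h.trans (map_zero _).symm)
  exact hf (this ▸ map_zero _)

/-- A regular section is a unit among meromorphic functions. -/
theorem isUnit_toK {U : X.Opens} {f : Γ(X, U)} (hf : f ∈ Mero.regSub X U) : IsUnit (Mero.toK X U f) :=
  DivX.isUnit_of_smul_injective _ fun W hW r hr => by
    refine TopCat.Presheaf.section_ext X.sheaf _ _ _ fun z hz => ?_
    have h1 := congrArg (fun k : Γ(Mero.kmod X, W) => k.1 ⟨z, hz⟩) hr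
    simp only [DivX.smul_val, DivX.kRes_apply, DivX.toK_val, ← map_mul] at h1
    exact ((mem_nonZeroDivisors_iff_right.1 (hf ⟨z, hW hz⟩)) _
      (Mero.algebraMap_KStalk_injective z (h1.trans (map_zero _).symm))).trans (map_zero _).symm

variable {L : X.Modules} (hL : PicF.IsInvertible L) {s : Coh.structureModule X ⟶ L} (hs : s ≠ 0)
  [hirr : IrreducibleSpace ↥(PicF2.zeroScheme L s).subscheme]

/-- The generic point of the zero scheme, in `X`. -/
def ξ (L : X.Modules) (s : Coh.structureModule X ⟶ L) [IrreducibleSpace ↥(PicF2.zeroScheme L s).subscheme] : X :=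
  (PicF2.zeroScheme L s).subschemeι (genericPoint _)

omit [IsIntegral X] in
theorem ξ_mem : ξ L s ∈ (PicF2.zeroScheme L s).support := by
  have h : ξ L s ∈ Set.range (PicF2.zeroScheme L s).subschemeι := ⟨_, rfl⟩
  rwa [Scheme.IdealSheafData.range_subschemeι] at h

omit [IsIntegral X] in
theorem specializes_of_mem {y : X} (hy : y ∈ (PicF2.zeroScheme L s).support) : ξ L s ⤳ y := by
  have h : y ∈ Set.range (PicF2.zeroScheme L s).subschemeι := by
    rwa [Scheme.IdealSheafData.range_subschemeι]
  obtain ⟨z, rfl⟩ := h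
  exact (genericPoint_specializes z).map (PicF2.zeroScheme L s).subschemeι.continuous

omit [IsIntegral X] in
theorem mem_support_iff {I : X.IdealSheafData} {U : X.affineOpens} {f : Γ(X, U.1)}
    (hI : I.ideal U = Ideal.span {f}) {y : X} (hy : y ∈ U.1) :
    y ∈ I.support ↔ ¬ IsUnit (X.presheaf.germ U.1 y hy f) := by
  rw [← Scheme.mem_basicOpen X f y hy]
  have h := Set.ext_iff.1 (I.coe_support_inter U) y
  rw [hI, Scheme.zeroLocus_span] at h
  simp only [Set.mem_inter_iff, SetLike.mem_coe, and_iff_left hy, and_true] at h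
  rw [h]
  simp

include hU hL in
/-- The local equation is, up to a unit, a power of the prime of the generic point. -/
theorem exists_prime {U : X.affineOpens} {f : Γ(X, U.1)}
    (hI : (PicF2.zeroScheme L s).ideal U = Ideal.span {f}) {x : X} (hx : x ∈ U.1)
    (hxs : x ∈ (PicF2.zeroScheme L s).support) (hf0 : X.presheaf.germ U.1 x hx f ≠ 0) :
    ∃ p, Prime p ∧ Ideal.span {p} = (primeOf (specializes_of_mem hxs)).asIdeal ∧
      ∃ n : ℕ, n ≠ 0 ∧ Associated (p ^ n) (X.presheaf.germ U.1 x hx f) := by
  haveI := hU x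
  let P := (primeOf (specializes_of_mem hxs)).asIdeal
  have hξU : ξ L s ∈ U.1 := (specializes_of_mem hxs).mem_open U.1.2 hx
  have hfP : X.presheaf.germ U.1 x hx f ∈ P := by
    rw [mem_primeOf, TopCat.Presheaf.germ_stalkSpecializes_apply]
    exact (mem_support_iff hI hξU).1 ξ_mem
  have hP0 : P ≠ ⊥ := fun h => hf0 ((Submodule.mem_bot _).1 (h ▸ hfP))
  obtain ⟨p, hpP, hp⟩ := Ideal.IsPrime.exists_mem_prime_of_ne_bot (primeOf (specializes_of_mem hxs)).2 hP0
  have hle : ∀ q, Prime q → q ∣ X.presheaf.germ U.1 x hx f → P ≤ Ideal.span {q} := by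
    intro q hq hqf
    haveI := (Ideal.span_singleton_prime hq.ne_zero).2 hq
    obtain ⟨y, hy, hyq⟩ := H23.StalkPrimes.exists_point (Ideal.span {q})
    have hys : y ∈ (PicF2.zeroScheme L s).support := by
      rw [mem_support_iff hI (hy.mem_open U.1.2 hx), ← TopCat.Presheaf.germ_stalkSpecializes_apply X.presheaf hx hy,
        ← mem_primeOf, hyq, Ideal.mem_span_singleton]
      exact hqf
    have := (H23.StalkPrimes.primeOf_le_iff hy (specializes_of_mem hxs)).2 (specializes_of_mem hys)
    rwa [hyq] at this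
  have hass : ∀ q, Prime q → q ∣ X.presheaf.germ U.1 x hx f → Associated q p := fun q hq hqf =>
    hq.associated_of_dvd hp (Ideal.mem_span_singleton.1 (hle q hq hqf hpP))
  have hnu : ¬ IsUnit (X.presheaf.germ U.1 x hx f) := fun h => (mem_support_iff hI hx).1 hxs h
  obtain ⟨q, hq, hqf⟩ := WfDvdMonoid.exists_irreducible_factor hnu hf0
  have hqp := hass q hq.prime hqf
  refine ⟨p, hp, ?_, Multiset.card (UniqueFactorizationMonoid.factors (X.presheaf.germ U.1 x hx f)), ?_, ?_⟩
  · refine le_antisymm ((Ideal.span_singleton_le_iff_mem _).2 hpP) ?_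
    rw [← Ideal.span_singleton_eq_span_singleton.2 hqp]
    exact hle q hq.prime hqf
  · rw [Ne, Multiset.card_eq_zero]
    obtain ⟨r, hr, -⟩ := UniqueFactorizationMonoid.exists_mem_factors_of_dvd hf0 hq hqf
    exact fun h => Multiset.notMem_zero r (h ▸ hr)
  · refine Associated.trans ?_ (UniqueFactorizationMonoid.factors_prod hf0)
    have key : ∀ m : Multiset (X.presheaf.stalk x), (∀ r ∈ m, Associated r p) →
        Associated (p ^ Multiset.card m) m.prod := by
      intro m
      induction m using Multiset.induction_on with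
      | empty => intro _; simp
      | cons a m ih =>
        intro h
        rw [Multiset.card_cons, Multiset.prod_cons, pow_succ']
        exact (h a (Multiset.mem_cons_self a m)).symm.mul_mul (ih fun r hr => h r (Multiset.mem_cons_of_mem hr))
    exact key _ fun r hr => hass r (UniqueFactorizationMonoid.prime_of_factor r hr)
      (UniqueFactorizationMonoid.dvd_of_mem_factors hr)

omit [IsIntegral X] in
/-- Two local generators of an ideal sheaf have associated germs. -/
theorem germ_associated [IsIntegral X] {I : X.IdealSheafData} {U U' : X.affineOpens} {f : Γ(X, U.1)} {f' : Γ(X, U'.1)}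
    (hI : I.ideal U = Ideal.span {f}) (hI' : I.ideal U' = Ideal.span {f'}) {y : X} (hy : y ∈ U.1) (hy' : y ∈ U'.1) :
    Associated (X.presheaf.germ U.1 y hy f) (X.presheaf.germ U'.1 y hy' f') := by
  obtain ⟨_, ⟨W, hW, rfl⟩, hyW, hle⟩ := X.isBasis_affineOpens.exists_subset_of_mem_open
    (⟨hy, hy'⟩ : y ∈ ((U.1 ⊓ U'.1 : X.Opens) : Set X)) (U.1 ⊓ U'.1).2
  have h1 := I.map_ideal (U := ⟨W, hW⟩) (V := U) (show W ≤ U.1 from fun z hz => (hle hz).1)
  have h2 := I.map_ideal (U := ⟨W, hW⟩) (V := U') (show W ≤ U'.1 from fun z hz => (hle hz).2)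
  rw [hI, Ideal.map_span, Set.image_singleton] at h1
  rw [hI', Ideal.map_span, Set.image_singleton, ← h1] at h2
  have h3 := congrArg (Ideal.map (X.presheaf.germ W y hyW).hom) h2
  rw [Ideal.map_span, Ideal.map_span, Set.image_singleton, Set.image_singleton] at h3
  erw [TopCat.Presheaf.germ_res_apply, TopCat.Presheaf.germ_res_apply] at h3
  exact Ideal.span_singleton_eq_span_singleton.1 h3.symm

include hU hL hs in
/-- There is one exponent for all points. -/
theorem exists_exponent :
    ∃ (D : Mero.Divisor X) (n : ℕ), n ≠ 0 ∧ Nonempty (L ≅ Mero.divMod D) ∧ ∀ x : X,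
      ∃ (U : X.affineOpens) (hx : x ∈ U.1) (f : Γ(X, U.1)) (hf : f ∈ Mero.regSub X U.1),
        (PicF2.zeroScheme L s).ideal U = Ideal.span {f} ∧
        (∀ y : U.1, D.1 y.1 = germClass (Mero.regGerm y ⟨f, hf⟩)) ∧
        ∃ p : X.presheaf.stalk x, Associated (p ^ n) (X.presheaf.germ U.1 x hx f) ∧ (IsUnit p ∨ Prime p) := by
  obtain ⟨D, hD, e, -⟩ := S19456.result X L hL s hs
  obtain ⟨U₀, hU₀, f₀, hf₀, hI₀, -⟩ := hD (ξ L s)
  obtain ⟨p₀, hp₀, hspan₀, n, hn, hass₀⟩ := exists_prime hU hL hI₀ hU₀ ξ_mem (nonZeroDivisors.ne_zero (hf₀ ⟨_, hU₀⟩))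
  refine ⟨D, n, hn, ⟨e⟩, fun x => ?_⟩
  obtain ⟨U, hx, f, hf, hI, hDU⟩ := hD x
  refine ⟨U, hx, f, hf, hI, hDU, ?_⟩
  by_cases hxs : x ∈ (PicF2.zeroScheme L s).support
  swap
  · obtain ⟨v, hv⟩ := not_not.1 (fun h => hxs ((mem_support_iff hI hx).2 h))
    exact ⟨1, by rw [one_pow, ← hv]; exact associated_one_iff_isUnit.2 v.isUnit |>.symm, Or.inl isUnit_one⟩
  obtain ⟨p, hp, hspan, m, hm, hass⟩ := exists_prime hU hL hI hx hxs (nonZeroDivisors.ne_zero (hf ⟨_, hx⟩))
  suffices m = n by exact ⟨p, this ▸ hass, Or.inr hp⟩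
  let φ := (X.presheaf.stalkSpecializes (specializes_of_mem hxs)).hom
  letI := φ.toAlgebra
  haveI := H23.StalkPrimes.isLocalization_primeOf (specializes_of_mem hxs)
  have hmax : Ideal.span {φ p} = IsLocalRing.maximalIdeal (X.presheaf.stalk (ξ L s)) := by
    have := IsLocalization.AtPrime.map_eq_maximalIdeal (primeOf (specializes_of_mem hxs)).asIdeal (X.presheaf.stalk (ξ L s))
    rwa [← hspan, Ideal.map_span, Set.image_singleton] at this
  have hspan₀' : Ideal.span {p₀} = IsLocalRing.maximalIdeal (X.presheaf.stalk (ξ L s)) := by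
    rw [hspan₀]
    ext t
    rw [mem_primeOf, TopCat.Presheaf.stalkSpecializes_refl, IsLocalRing.mem_maximalIdeal, mem_nonunits_iff]
    rfl
  have h1 : Associated (φ p) p₀ := Ideal.span_singleton_eq_span_singleton.1 (hmax.trans hspan₀'.symm)
  have h2 : Associated (p₀ ^ m) (p₀ ^ n) := by
    have h3 : Associated (φ (p ^ m)) (φ (X.presheaf.germ U.1 x hx f)) := hass.map φ.toMonoidHom
    rw [map_pow] at h3
    refine (h1.pow_pow (n := m)).symm.trans (h3.trans (Associated.trans ?_ hass₀.symm))
    show Associated (X.presheaf.stalkSpecializes (specializes_of_mem hxs) (X.presheaf.germ U.1 x hx f)) _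
    rw [TopCat.Presheaf.germ_stalkSpecializes_apply]
    exact germ_associated hI hI₀ _ _
  exact eq_of_associated_pow hp₀ h2
where
  eq_of_associated_pow {R : Type u} [CommRing R] [IsDomain R] {p : R} (hp : Prime p) {m n : ℕ}
      (h : Associated (p ^ m) (p ^ n)) : m = n :=
    le_antisymm ((pow_dvd_pow_iff hp.ne_zero hp.not_unit).1 h.dvd) ((pow_dvd_pow_iff hp.ne_zero hp.not_unit).1 h.symm.dvd)

include hU hL hs in
/-- **Reduced, or a proper power.** -/
theorem isReduced_or_exists_root :
    IsReduced (PicF2.zeroScheme L s).subscheme ∨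
      ∃ (M : X.Modules) (n : ℕ), 2 ≤ n ∧ PicF.IsInvertible M ∧ PicF.cl L = PicF.cl M ^ n := by
  obtain ⟨D, n, hn, ⟨e⟩, hloc⟩ := exists_exponent hU hL hs
  rcases (Nat.one_le_iff_ne_zero.2 hn).eq_or_lt with rfl | hn2
  · left
    have hrad : PicF2.zeroScheme L s = Scheme.IdealSheafData.vanishingIdeal (PicF2.zeroScheme L s).support := by
      have hloc' := hloc
      choose U hx f hf hI _ using hloc
      refine Scheme.IdealSheafData.ext_of_iSup_eq_top U (eq_top_iff.2 fun z _ => Opens.mem_iSup.2 ⟨z, hx z⟩) fun i => ?_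
      refine le_antisymm ((Scheme.IdealSheafData.le_support_iff_le_vanishingIdeal.1 le_rfl) _) fun a ha => ?_
      refine (U i).2.mem_ideal_iff.2 fun y hy => ?_
      rw [hI, Ideal.map_span, Set.image_singleton, Ideal.mem_span_singleton]
      by_cases hys : y ∈ (PicF2.zeroScheme L s).support
      swap
      · exact (not_not.1 fun h => hys ((mem_support_iff (hI i) hy).2 h)).dvd
      obtain ⟨U', hy', f', hf', hI', -, p, hp, hpu⟩ := hloc' y
      rw [pow_one] at hp
      have hp' : Prime p := hpu.resolve_left fun h =>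
        (mem_support_iff hI' hy').1 hys (hp.isUnit h)
      obtain ⟨q, hq, hspan, m, hm, hqm⟩ := exists_prime hU hL hI' hy' hys (nonZeroDivisors.ne_zero (hf' ⟨y, hy'⟩))
      have hqp : Associated q p := hq.associated_of_dvd hp' ((dvd_pow_self q hm).trans (hqm.trans hp.symm).dvd)
      have hmem : X.presheaf.germ (U i).1 y hy a ∈ (primeOf (specializes_of_mem hys)).asIdeal := by
        rw [mem_primeOf, TopCat.Presheaf.germ_stalkSpecializes_apply]
        intro hu
        rw [Scheme.IdealSheafData.vanishingIdeal_ideal] at ha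
        have hξi : ξ L s ∈ (U i).1 := (specializes_of_mem hys).mem_open (U i).1.2 hy
        obtain ⟨P, hP⟩ : ξ L s ∈ Set.range (U i).2.fromSpec := by
          rw [(U i).2.range_fromSpec]; exact hξi
        have hPmem : P ∈ (U i).2.fromSpec ⁻¹' ((PicF2.zeroScheme L s).support : Set X) := by
          show (U i).2.fromSpec P ∈ ((PicF2.zeroScheme L s).support : Set X)
          rw [hP]; exact ξ_mem
        have haP : a ∈ P.asIdeal := (PrimeSpectrum.mem_vanishingIdeal _ _).1 ha P hPmem
        have hb : (U i).2.fromSpec P ∈ X.basicOpen a := by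
          rw [hP]; exact (Scheme.mem_basicOpen X a _ hξi).2 hu
        have : P ∈ (U i).2.fromSpec ⁻¹ᵁ X.basicOpen a := hb
        rw [(U i).2.fromSpec_preimage_basicOpen] at this
        exact this haP
      rw [← hspan, Ideal.mem_span_singleton] at hmem
      exact ((germ_associated (hI i) hI' hy hy').trans (hp.symm.trans hqp.symm)).dvd.trans hmem
    rw [hrad]
    infer_instance
  · right
    choose U hx f hf hI hDU p hp hpu using hloc
    have hp0 : ∀ x, p x ∈ Mero.regStalk X x := fun x => by
      obtain ⟨W, hW, g, hg⟩ := TopCat.Presheaf.exists_germ_eq X.presheaf (p x)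
      refine ⟨W, hW, g, mem_regSub hW ?_, hg⟩
      rw [hg]
      intro h0
      have hp' := hp x
      rw [h0, zero_pow hn, Associated.comm, associated_zero_iff_eq_zero] at hp'
      exact nonZeroDivisors.ne_zero (hf x ⟨x, hx x⟩) hp' 
    let E : ∀ x : X, Mero.Germ X x := fun x => germClass ⟨p x, hp0 x⟩
    have hE : ∀ x, E x ^ n = D.1 x := fun x => by
      rw [← germClass_pow, hDU x ⟨x, hx x⟩]
      exact germClass_eq_of_associated (hp x)
    have hEdiv : E ∈ Mero.divisorGroup X := by
      intro x
      obtain ⟨W, hW, g, hg⟩ := TopCat.Presheaf.exists_germ_eq X.presheaf (p x)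
      obtain ⟨v, hv⟩ := hp x
      obtain ⟨W', hW', w, hw⟩ := TopCat.Presheaf.exists_germ_eq X.presheaf (v : X.presheaf.stalk x)
      let V : X.Opens := (W ⊓ W') ⊓ (U x).1
      have hxV : x ∈ V := ⟨⟨hW, hW'⟩, hx x⟩
      let gV := X.presheaf.map (homOfLE (inf_le_left.trans inf_le_left : V ≤ W)).op g
      let wV := X.presheaf.map (homOfLE (inf_le_left.trans inf_le_right : V ≤ W')).op w
      let fV := X.presheaf.map (homOfLE (inf_le_right : V ≤ (U x).1)).op (f x)
      have heq : gV ^ n * wV = fV := by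
        refine germ_injective_of_isIntegral X x hxV ?_
        simp only [gV, wV, fV, map_mul, map_pow]
        erw [TopCat.Presheaf.germ_res_apply, TopCat.Presheaf.germ_res_apply, TopCat.Presheaf.germ_res_apply]
        rw [hg, hw, hv]
      let B : X.Opens := X.basicOpen wV
      have hxB : x ∈ B := by
        rw [Scheme.mem_basicOpen X wV x hxV]
        simp only [wV, TopCat.Presheaf.germ_res_apply, hw]
        exact v.isUnit
      let gB := X.presheaf.map (homOfLE (X.basicOpen_le wV)).op gV
      have hgB : gB ∈ Mero.regSub X B := by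
        refine mem_regSub hxB ?_
        have e1 : X.presheaf.germ B x hxB gB = p x :=
          (TopCat.Presheaf.germ_res_apply _ _ _ _ _).trans ((TopCat.Presheaf.germ_res_apply _ _ _ _ _).trans hg)
        rw [e1]
        exact nonZeroDivisors.ne_zero (Mero.regStalk_le_nonZeroDivisors x (hp0 x))
      refine ⟨B, hxB, (isUnit_toK hgB).unit, fun y => ?_⟩
      have hyV : y.1 ∈ V := X.basicOpen_le wV y.2
      have hg' : Mero.germOf (isUnit_toK hgB).unit y = germClass (Mero.regGerm y ⟨gB, hgB⟩) :=
        congrArg _ (Units.ext rfl)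
      rw [hg']
      refine germ_pow_inj hU y.1 hn ?_
      rw [hE, ← germClass_pow, hDU x ⟨y.1, hyV.2⟩]
      refine germClass_eq_of_associated (Associated.symm ?_)
      refine ⟨((Scheme.mem_basicOpen X wV y.1 hyV).1 y.2).unit, ?_⟩
      have := congrArg (X.presheaf.germ V y.1 hyV) heq
      simp only [map_mul, map_pow] at this
      have e1 : X.presheaf.germ B y.1 y.2 gB = X.presheaf.germ V y.1 hyV gV := TopCat.Presheaf.germ_res_apply _ _ _ _ _
      have e2 : X.presheaf.germ V y.1 hyV fV = X.presheaf.germ (U x).1 y.1 hyV.2 (f x) := TopCat.Presheaf.germ_res_apply _ _ _ _ _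
      simp only [IsUnit.unit_spec, SubmonoidClass.coe_pow]
      rw [e1, ← e2]
      exact this
    let E' : Mero.Divisor X := ⟨E, hEdiv⟩
    have hDE : D = E' ^ n := Subtype.ext (funext fun x => (hE x).symm)
    refine ⟨Mero.divMod E', n, hn2, DivX.isInvertible_divMod E', ?_⟩
    have hpow : ∀ m : ℕ, 1 ≤ m → PicF.cl (Mero.divMod (E' ^ m)) = PicF.cl (Mero.divMod E') ^ m := by
      intro m hm
      induction m, hm using Nat.le_induction with
      | base => rw [pow_one, pow_one]
      | succ m _ ih =>
        obtain ⟨μ', -, hμ⟩ := S19455.result X (E' ^ m) E'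
        haveI := hμ
        rw [pow_succ, pow_succ, ← ih, ← H23.PicMul.cl_tensor]
        exact (H23.PicMul.cl_eq_iff.2 ⟨asIso μ'⟩).symm
    rw [← hpow n (by omega), ← hDE]
    exact H23.PicMul.cl_eq_iff.2 ⟨e⟩

end Groth.Agent.AVThetaRed
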